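import Cfsg.Agent.Lib.Fus2.Tate

/-!
# Fus2/Yos: Yoshida's transfer theorem, Thompson's transfer lemma and the trace map for fusion systems
-/

set_option autoImplicit false

namespace Cfsg.Lib.Fus2

open Cfsg Cfsg.FusionSystem Subgroup Cfsg.Lib.Amalg Equiv

section Wreath

variable {p : ℕ} [hp : Fact p.Prime]

open Polynomial in
theorem X_sub_one_pow_pred : ((X : (ZMod p)[X]) - 1) ^ (p - 1) = ∑ i ∈ Finset.range p, X ^ i := by
  apply mul_right_cancel₀ (b := X - 1) (by simpa using X_sub_C_ne_zero (1 : ZMod p))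
  rw [geom_sum_mul, ← pow_succ, Nat.sub_add_cancel hp.out.pos, sub_pow_char, one_pow]

open Polynomial in
theorem X_sub_one_pow_char : ((X : (ZMod p)[X]) - 1) ^ p = X ^ p - 1 := by
  rw [sub_pow_char, one_pow]

open Polynomial in
theorem le_finrank_of_norm {V : Type*} [AddCommGroup V] [Module (ZMod p) V] [Module.Finite (ZMod p) V]
    (σ : Module.End (ZMod p) V) (h : σ ^ p = 1) (h' : ∑ i ∈ Finset.range p, σ ^ i ≠ 0) :
    p ≤ Module.finrank (ZMod p) V := by
  have a1 : (σ - 1) ^ p = 0 := by simpa [h] using congrArg (aeval σ) (X_sub_one_pow_char (p := p))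
  have a2 : (σ - 1) ^ (p - 1) = ∑ i ∈ Finset.range p, σ ^ i := by
    simpa using congrArg (aeval σ) (X_sub_one_pow_pred (p := p))
  have a3 := LinearMap.aeval_self_charpoly (σ - 1)
  rw [IsNilpotent.charpoly_eq_X_pow_finrank ⟨p, a1⟩, map_pow, aeval_X] at a3
  by_contra hlt
  exact h' (a2 ▸ pow_eq_zero_of_le (by omega) a3)

theorem card_sylow_perm (Q : Sylow p (Perm (Fin (p ^ 2)))) : Nat.card Q = p ^ (p + 1) := by
  rw [Sylow.card_eq_multiplicity, Nat.card_eq_fintype_card, Fintype.card_perm, Fintype.card_fin,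
    Nat.factorization_def _ hp.out, sq, padicValNat_factorial_mul]
  have := padicValNat_factorial_mul 1 (p := p)
  rw [mul_one] at this
  rw [this]; simp [add_comm]

/-- the wreath product `C_p ≀ C_p` is a quotient of `P` -/
def WrQ (p : ℕ) (P : Type*) [Group P] : Prop :=
  ∃ (Q : Sylow p (Perm (Fin (p ^ 2)))) (f : P →* (Q : Subgroup (Perm (Fin (p ^ 2))))), Function.Surjective f

theorem exists_wreath {P : Type*} [Group P] [Finite P] (hP : IsPGroup p P) {M : Subgroup P} (hM : M.index = p)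
    (l : M →* Multiplicative (ZMod p)) {x y : P} (hx : x ∈ M)
    (h : ∏ i ∈ Finset.range p, homFun l ((y ^ i)⁻¹ * x * y ^ i) ≠ 1) : WrQ p P := by
  classical
  have hn := Core.normal_of_index_eq_of_isPGroup hP hM
  have cm : ∀ (g : P), ∀ m ∈ M, g⁻¹ * m * g ∈ M := fun g m hm => hn.conj_mem' m hm g
  let Λ : M →* Multiplicative (ℕ → ZMod p) := MonoidHom.mk'
    (fun m => Multiplicative.ofAdd fun n => (homFun l ((y ^ n)⁻¹ * m * y ^ n)).toAdd) fun a b => by
      rw [← ofAdd_add]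
      congr 1
      funext n
      rw [Pi.add_apply, ← toAdd_mul, ← homFun_mul _ (cm _ _ a.2) (cm _ _ b.2)]
      congr 2
      simp [mul_assoc]
  let V : Submodule (ZMod p) (ℕ → ZMod p) := AddSubgroup.toZModSubmodule p (Subgroup.toAddSubgroup' Λ.range)
  have hV : ∀ v, v ∈ V ↔ ∃ m ∈ M, ∀ n, v n = (homFun l ((y ^ n)⁻¹ * m * y ^ n)).toAdd := fun v =>
    ⟨fun ⟨m, e⟩ => ⟨m, m.2, fun n => (congrFun e n).symm⟩, fun ⟨m, hm, e⟩ => ⟨⟨m, hm⟩, funext fun n => (e n).symm⟩⟩
  have cV : Nat.card V = Nat.card Λ.range := rfl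
  have : Finite V := Finite.of_surjective _ Λ.rangeRestrict_surjective
  let σ₀ : Module.End (ZMod p) (ℕ → ZMod p) := LinearMap.funLeft _ _ fun n => n + 1
  have hσ₀ : ∀ k v n, (σ₀ ^ k) v n = v (n + k) := fun k => by
    induction k with
    | zero => exact fun _ _ => rfl
    | succ k ih => exact fun v n => by rw [pow_succ, Module.End.mul_apply, ih]; rfl
  have inv : ∀ v ∈ V, σ₀ v ∈ V := fun v hv => by
    obtain ⟨m, hm, e⟩ := (hV v).1 hv
    refine (hV _).2 ⟨_, cm y m hm, fun n => (e (n + 1)).trans ?_⟩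
    congr 2
    simp [pow_succ', mul_assoc]
  have hyp : y ^ p ∈ M := hM ▸ M.pow_index_mem y
  have hr : ∀ k (v : V) n, ((σ₀.restrict inv ^ k) v).1 n = v.1 (n + k) := fun k v n => by
    rw [Module.End.pow_restrict, LinearMap.coe_restrict_apply, hσ₀]
  have a1 := le_finrank_of_norm (σ₀.restrict inv) (by
    ext ⟨v, hv⟩ n
    obtain ⟨m, hm, e⟩ := (hV v).1 hv
    rw [hr, Module.End.one_apply]
    change v _ = v _
    rw [e, e]
    have : (y ^ (n + p))⁻¹ * m * y ^ (n + p) = (y ^ p)⁻¹ * ((y ^ n)⁻¹ * m * y ^ n) * (y ^ p)⁻¹⁻¹ := by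
      simp [pow_add, mul_assoc]
    rw [this, homFun_conj _ (M.inv_mem hyp) (cm _ _ hm), mul_inv_cancel_comm]) fun e => h (by
    have := congrArg (fun T : Module.End (ZMod p) V => (T ⟨_, (hV _).2 ⟨x, hx, fun _ => rfl⟩⟩).1 0) e
    simp only [LinearMap.coe_sum, Finset.sum_apply, Submodule.coe_sum, hr, zero_add] at this
    rw [← toAdd_eq_zero, toAdd_prod]
    exact this)
  have a2 : p ^ p ≤ Nat.card Λ.range := by
    rw [← cV, Module.natCard_eq_pow_finrank (K := ZMod p), Nat.card_zmod]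
    exact Nat.pow_le_pow_right hp.out.pos a1
  have a3 : Function.Surjective l := by
    rw [← MonoidHom.range_eq_top]
    have : Fact (Nat.card (Multiplicative (ZMod p))).Prime := ⟨by rw [card_zmod_mul]; exact hp.out⟩
    refine (eq_bot_or_eq_top_of_prime_card _).resolve_left fun e => h (Finset.prod_eq_one fun i _ => ?_)
    rw [homFun_of_mem _ (cm _ _ hx)]
    exact mem_bot.1 (e ▸ ⟨_, rfl⟩)
  let L := l.ker.map M.subtype
  have a4 : L.index = p ^ 2 := by
    rw [index_map_subtype, index_ker, MonoidHom.range_eq_top.2 a3, card_top, card_zmod_mul, hM, sq]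
  let ρ := (Finite.equivFinOfCardEq (α := P ⧸ L) a4).permCongrHom.toMonoidHom.comp (MulAction.toPermHom P (P ⧸ L))
  have a5 : ρ.ker ≤ Λ.ker.map M.subtype := by
    rw [MonoidHom.ker_comp_of_injective _ _ (MulEquiv.injective _), ← normalCore_eq_ker]
    intro m hm
    refine ⟨⟨m, map_subtype_le _ (normalCore_le _ hm)⟩, funext fun n => ?_, rfl⟩
    have := (mem_map_ker.1 (hm (y ^ n)⁻¹)).2
    rw [inv_inv] at this
    exact congrArg Multiplicative.toAdd this
  obtain ⟨Q, hQ⟩ := (hP.of_surjective _ ρ.rangeRestrict_surjective).exists_le_sylow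
  have a6 : ρ.range = Q := eq_of_le_of_card_ge hQ (by
    have := Nat.le_of_dvd (Nat.pos_of_ne_zero index_ne_zero_of_finite) (index_dvd_of_le a5)
    rw [index_map_subtype, index_ker, index_ker, hM] at this
    rw [card_sylow_perm, pow_succ]
    exact (Nat.mul_le_mul_right p a2).trans this)
  exact ⟨Q, ρ.codRestrict _ fun g => hQ ⟨g, rfl⟩, fun q => by
    obtain ⟨g, e⟩ : (q : Perm (Fin (p ^ 2))) ∈ ρ.range := by rw [a6]; exact q.2
    exact ⟨g, Subtype.ext e⟩⟩

/-- a cocycle on a transitive set with a block system of `p` blocks -/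
theorem prod_orb_eq_one {P Y : Type*} [Group P] [Finite P] [Fintype Y] (hP : IsPGroup p P) (hW : ¬ WrQ p P)
    (τ : P →* Perm Y) (e : P → Y → Multiplicative (ZMod p)) (he : ∀ g h y, e (g * h) y = e g (τ h y) * e h y)
    {M : Subgroup P} (hM : IsCoatom M) {y : Y} (hy : pstab τ y ≤ M) {u : P} (hu : u ∈ M) {O : Finset Y}
    (hO : (O : Set Y) = orb τ y) : ∏ z ∈ O, e u z = 1 := by
  classical
  have hn := Core.normal_of_isCoatom_of_isPGroup hP hM
  have hi := Core.index_eq_of_isCoatom_of_isPGroup hP hM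
  obtain ⟨g, hg⟩ : ∃ g, g ∉ M := by simpa [eq_top_iff'] using hM.1
  let O₀ : Finset Y := (Set.toFinite (orb (τ.comp M.subtype) y)).toFinset
  have hO₀ : ∀ z, z ∈ O₀ ↔ ∃ m ∈ M, τ m y = z := fun z => by
    simp only [O₀, Set.Finite.mem_toFinset]
    exact ⟨fun ⟨m, e⟩ => ⟨m, m.2, e⟩, fun ⟨m, hm, e⟩ => ⟨⟨m, hm⟩, e⟩⟩
  have i0 : Invar (τ.comp M.subtype) O₀ := by
    simp only [O₀, Set.Finite.coe_toFinset]; exact invar_orb _ _
  let l : M →* Multiplicative (ZMod p) := MonoidHom.mk' (fun m => ∏ z ∈ O₀, e m z) fun a b => by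
    simp only [coe_mul, he, Finset.prod_mul_distrib]
    exact congrArg (· * _) (i0.prod_comp b (e a))
  have ho : orderOf (g : P ⧸ M) = p := orderOf_eq_prime (by
    rw [← QuotientGroup.mk_pow, QuotientGroup.eq_one_iff]; exact hi ▸ M.pow_index_mem g)
    (by rwa [Ne, QuotientGroup.eq_one_iff])
  have a1 : O = (Finset.range p).biUnion fun i => O₀.image (τ (g ^ i)) := by
    ext z
    rw [← Finset.mem_coe, hO]
    simp only [Finset.mem_biUnion, Finset.mem_range, Finset.mem_image, hO₀]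
    constructor
    · rintro ⟨s, rfl⟩
      have : Fact (Nat.card (P ⧸ M)).Prime := ⟨by rw [← index_eq_card, hi]; exact hp.out⟩
      have b1 : (s : P ⧸ M) ∈ zpowers (g : P ⧸ M) := by
        rw [zpowers_eq_top_of_prime_card rfl (by rwa [Ne, QuotientGroup.eq_one_iff])]; trivial
      rw [mem_zpowers_iff_mem_range_orderOf, ho] at b1
      simp only [Finset.mem_image, Finset.mem_range] at b1
      obtain ⟨i, hi, e⟩ := b1
      rw [← QuotientGroup.mk_pow, QuotientGroup.eq] at e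
      exact ⟨i, hi, _, ⟨_, e, rfl⟩, by rw [← act_mul, mul_inv_cancel_left]⟩
    · rintro ⟨i, -, _, ⟨m, -, rfl⟩, rfl⟩
      exact ⟨g ^ i * m, act_mul _ _ _ _⟩
  by_contra hne
  refine hW (exists_wreath hP hi l hu (y := g) fun h => hne ?_)
  rw [a1, Finset.prod_biUnion, ← h]
  · refine Finset.prod_congr rfl fun i _ => ?_
    have b1 := hn.conj_mem' u hu (g ^ i)
    rw [Finset.prod_image fun _ _ _ _ h => (τ _).injective h, homFun_of_mem _ b1]
    have b2 : ∀ z, e u (τ (g ^ i) z) * e (g ^ i) z = e (g ^ i) (τ ((g ^ i)⁻¹ * u * g ^ i) z) *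
        e ((g ^ i)⁻¹ * u * g ^ i) z := fun z => by rw [← he, ← he]; congr 1; group
    have b3 := Finset.prod_congr (s₁ := O₀) rfl fun z _ => b2 z
    rw [Finset.prod_mul_distrib, Finset.prod_mul_distrib, mul_comm] at b3
    have b4 := i0.prod_comp ⟨_, b1⟩ (e (g ^ i))
    exact mul_left_cancel (b3.trans (congrArg (· * _) b4))
  · intro i hi j hj hij
    refine Finset.disjoint_left.2 fun z h1 h2 => hij ?_
    simp only [Finset.mem_image, hO₀] at h1 h2
    obtain ⟨_, ⟨m, hm, rfl⟩, rfl⟩ := h1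
    obtain ⟨_, ⟨m', hm', rfl⟩, e⟩ := h2
    rw [← act_mul, ← act_mul, act_eq_iff] at e
    have b1 : ((g ^ i * m : P) : P ⧸ M) = (g ^ j * m' : P) := QuotientGroup.eq.2 (hy e)
    rw [QuotientGroup.mk_mul_of_mem _ hm, QuotientGroup.mk_mul_of_mem _ hm', QuotientGroup.mk_pow,
      QuotientGroup.mk_pow] at b1
    exact pow_injOn_Iio_orderOf (by simpa [ho] using hi) (by simpa [ho] using hj) b1

end Wreath

theorem ker_eq_of_coatom {G A : Type*} [Group G] [Group A] [Nontrivial A] {θ : G →* A} (h : Function.Surjective θ)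
    {M : Subgroup G} (hM : IsCoatom M) (hle : M ≤ θ.ker) : θ.ker = M := by
  by_contra e
  obtain ⟨a, ha⟩ := exists_ne (1 : A)
  obtain ⟨u, rfl⟩ := h a
  exact ha (MonoidHom.mem_ker.1 ((hM.2 _ (lt_of_le_of_ne hle (Ne.symm e))).symm ▸ mem_top u))

theorem eq_of_mem_zpowers_two {G : Type*} [Group G] {i w : G} (hi : orderOf i = 2) (hw : w ∈ zpowers i) (h : w ≠ 1) :
    w = i := by
  classical
  rw [(orderOf_pos_iff.1 (by omega)).mem_zpowers_iff_mem_range_orderOf, hi] at hw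
  simp only [Finset.mem_image, Finset.mem_range] at hw
  obtain ⟨n, hn, rfl⟩ := hw
  interval_cases n
  · simp at h
  · simp

theorem exists_trace {A K : Type*} [Group A] [Finite A] [CommGroup K] (φ : A →* MulAut K) (B : Subgroup A) :
    ∃ t : K →* K, (∀ k, (∀ b ∈ B, φ b k = k) → ∀ a, φ a (t k) = t k) ∧
      ∀ (L : Subgroup K) k, (∀ a, k⁻¹ * φ a k ∈ L) → (k ^ B.index)⁻¹ * t k ∈ L := by
  have := Fintype.ofFinite (A ⧸ B)
  refine ⟨MonoidHom.mk' (fun k => ∏ c : A ⧸ B, φ c.out k) fun a b => by simp [Finset.prod_mul_distrib],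
    fun k hk a => ?_, fun L k hk => ?_⟩
  · simp only [MonoidHom.mk'_apply, map_prod]
    refine Fintype.prod_equiv (MulAction.toPerm a) _ _ fun c => ?_
    obtain ⟨b, hb⟩ := QuotientGroup.mk_out_eq_mul B (a * c.out)
    have e : (MulAction.toPerm a) c = ((a * c.out : A) : A ⧸ B) := by
      conv_lhs => rw [← c.out_eq']
      rfl
    rw [e, hb, map_mul, map_mul, MulAut.mul_apply, MulAut.mul_apply, hk b b.2]
  · rw [MonoidHom.mk'_apply, index_eq_card, Nat.card_eq_fintype_card, ← inv_pow, ← Finset.card_univ,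
      ← Finset.prod_const, ← Finset.prod_mul_distrib]
    exact prod_mem fun c _ => hk _

variable {Ω : Type*} [Group Ω] {S T P Q : Subgroup Ω} {F H : FusionSystem S} {f : Ω → Ω} {x : Ω} {p : ℕ}
  [Finite S] [hp : Fact p.Prime]

open scoped IsMulCommutative in
theorem exists_trace_center (hF : Fus.Sat p F) (hQ : F.IsNormal Q) : ∃ (n : ℕ) (t : Ω → Ω), ¬ p ∣ n ∧
    (∀ x ∈ centralizerIn Q Q, ∀ y ∈ centralizerIn Q Q, t (x * y) = t x * t y) ∧
    (∀ x ∈ Q ⊓ centralizer (S : Set Ω), t x ∈ F.center) ∧ (∀ x ∈ Q ⊓ F.center, t x = x ^ n) ∧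
    ∀ x ∈ centralizerIn Q Q, (x ^ n)⁻¹ * t x ∈ F.focalSubgroup := by
  have hQS := hQ.1
  have := finite_mulAut hQS
  let φ := Coprime.subAut (F.autGroup Q).subtype (center Q) fun a x hx =>
    (characteristic_iff_map_le.1 inferInstance (a : MulAut Q)) ⟨x, hx, rfl⟩
  let j : center Q →* Ω := Q.subtype.comp (center Q).subtype
  have hj : Function.Injective j := Q.subtype_injective.comp (center Q).subtype_injective
  have hφ : ∀ a z, j (φ a z) = autFun (a : MulAut Q) (j z) := fun a z => (autFun_coe _ _).symm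
  have hr : ∀ x ∈ centralizerIn Q Q, ∃ z, j z = x := fun x hx =>
    ⟨⟨⟨x, hx.1⟩, mem_center_iff.2 fun g => Subtype.ext (hx.2 g g.2)⟩, rfl⟩
  obtain ⟨t, h1, h2⟩ := exists_trace φ ((autInducedBy S Q).subgroupOf (F.autGroup Q))
  let t' : Ω → Ω := Function.extend j (fun z => j (t z)) id
  have ht : ∀ z, t' (j z) = j (t z) := fun z => hj.extend_apply _ _ z
  have hc : ∀ x ∈ Q ⊓ centralizer (S : Set Ω), x ∈ centralizerIn Q Q := fun x hx =>
    ⟨hx.1, Core.centralizer_anti hQS hx.2⟩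
  refine ⟨_, t', (syl_aut_of_fn hF (fn_of_isNormal hQ)).not_dvd_relIndex, fun x hx y hy => ?_, fun x hx => ?_, fun x hx => ?_,
    fun x hx => ?_⟩
  · obtain ⟨a, rfl⟩ := hr x hx
    obtain ⟨b, rfl⟩ := hr y hy
    rw [← map_mul, ht, ht, ht, map_mul, map_mul]
  · obtain ⟨a, rfl⟩ := hr x (hc x hx)
    have a1 := h1 a fun b hb => hj (by
      obtain ⟨s, hs, e⟩ := mem_autInducedBy_iff.1 (mem_subgroupOf.1 hb)
      rw [hφ, e _ hx.1, hx.2 s hs, mul_inv_cancel_right])
    rw [ht]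
    have a2 : j (t a) ∈ Q := (t a).1.2
    refine (mem_center_iff' hF).2 ⟨hQS a2, fun P f hf hP => ?_⟩
    obtain ⟨g, b1, b2, b3⟩ := hf.ext_normal hQ
    obtain ⟨α, hα, b4⟩ := (b1.mono le_sup_right).exists_aut b3
    rw [← b2 _ hP, ← b4 _ a2]
    exact (hφ ⟨α, hα⟩ _).symm.trans (congrArg j (a1 _))
  · obtain ⟨a, rfl⟩ := hr x (hc x ⟨hx.1, center_le_centralizer F hx.2⟩)
    have := h2 ⊥ a fun α => by
      rw [mem_bot, inv_mul_eq_one]
      exact hj (by rw [hφ, (mor_autFun hQS α).fix_of_mem_center hx.1 hx.2])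
    rw [mem_bot, inv_mul_eq_one] at this
    rw [ht, ← this, map_pow]; rfl
  · obtain ⟨a, rfl⟩ := hr x hx
    have := h2 (F.focalSubgroup.comap j) a fun α => by
      rw [mem_comap, map_mul, map_inv, hφ]
      exact (mor_autFun hQS α).inv_mul_mem_focal hx.1
    rw [mem_comap, map_mul, map_inv, map_pow] at this
    rw [ht]; exact this

/-- Yoshida's theorem -/
theorem yoshida (hF : Fus.Sat p F) (hH : Fus.Sat p H) (hs : H.IsSubsystemOf F) (h0 : ∀ f, Mor F S f → Mor H S f)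
    (hne : H.focalSubgroup ≠ F.focalSubgroup) : WrQ p S := by
  classical
  by_contra hW
  have a1 : ¬ F.focalSubgroup ≤ (frattini S).map S.subtype ⊔ H.focalSubgroup := fun h => hne (by
    rw [focal_eq_hyp_sup hF, focal_eq_hyp_sup hH, hyp_eq_of_focal_le hF hH hs h])
  obtain ⟨θ₀, x, hx, a2, a3⟩ : ∃ θ : S →* Multiplicative (ZMod p), ∃ x ∈ F.focalSubgroup, homFun θ x ≠ 1 ∧ FInv H θ := by
    obtain ⟨x, hx, hx'⟩ := SetLike.not_le_iff_exists.1 a1
    have hxS := focalSubgroup_le F hx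
    obtain ⟨M, hM, hxM, hMH⟩ : ∃ M : Subgroup S, IsCoatom M ∧ ⟨x, hxS⟩ ∉ M ∧ H.focalSubgroup.subgroupOf S ≤ M := by
      by_contra hcon
      push Not at hcon
      let K := frattini S ⊔ H.focalSubgroup.subgroupOf S
      have : K.Normal := Subgroup.Normal.of_commutator_le _
        ((Core.commutator_le_frattini_of_isPGroup hF.pg).trans le_sup_left)
      have b1 : frattini (S ⧸ K) = ⊥ := by
        rw [← Core.map_frattini_of_isPGroup hF.pg (QuotientGroup.mk'_surjective K), Core.map_mk'_eq_bot_iff]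
        exact le_sup_left
      have b2 : ((⟨x, hxS⟩ : S) : S ⧸ K) ∈ frattini (S ⧸ K) := Core.mem_frattini_iff.2 fun M hM => by
        by_contra hxM
        exact hcon _ (isCoatom_comap_of_surjective (QuotientGroup.mk'_surjective K) hM) hxM
          (le_sup_right.trans (Core.le_comap_mk' K M))
      rw [b1, mem_bot, QuotientGroup.eq_one_iff] at b2
      refine hx' ?_
      have := mem_map_of_mem S.subtype b2
      rwa [Subgroup.map_sup, subgroupOf_map_subtype, inf_eq_left.2 (focalSubgroup_le H)] at this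
    obtain ⟨θ, b1, b2⟩ := exists_hom_zmod (T := M.map S.subtype) hF.pg (lt_of_le_of_ne (map_subtype_le M) fun e =>
      hxM (by have : x ∈ M.map S.subtype := e.symm ▸ hxS; obtain ⟨y, hy, rfl⟩ := this; exact hy))
    refine ⟨θ, x, hx, fun e => ?_, fInv_iff.2 fun y hy => b2 y ⟨⟨y, focalSubgroup_le H hy⟩, hMH hy, rfl⟩⟩
    exact hxM (ker_eq_of_coatom b1 hM (fun y hy => (homFun_coe θ y).symm.trans (b2 y ⟨y, hy, rfl⟩)) ▸
      (homFun_of_mem θ hxS).symm.trans e)
  obtain ⟨G, _, _, Y, _, B, hY⟩ := exists_cb hF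
  have := Fintype.ofFinite Y
  let θ₁ := (B.tr θ₀).comp B.ι
  let θ : S →* Multiplicative (ZMod p) := θ₀ ^ Nat.card Y * θ₁⁻¹
  have hθ : ∀ s ∈ S, homFun θ s = homFun θ₀ s ^ Nat.card Y * (homFun θ₁ s)⁻¹ := fun s hs => by
    simp only [homFun_of_mem _ hs]; rfl
  have b1 : FInv H θ := fun P f hf y hy => by
    rw [hθ _ (hf.mem hy), hθ _ (hf.le hy), a3 P f hf y hy, B.fInv_tr θ₀ P f (hf.of_sub hs) y hy]
  have b2 : ∀ s : S, B.tr θ (B.ι s) = 1 := fun s => by
    have c1 := B.tr_eq_pow' θ₁ (B.fInv_tr θ₀) s.2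
    rw [homFun_coe, homFun_coe, B.tr_apply] at c1
    have c2 : θ₁ s = ∏ y, θ₀ (B.c (B.ι s) y) := B.tr_apply θ₀ _
    rw [B.tr_apply]
    simp only [θ, MonoidHom.mul_apply, MonoidHom.pow_apply, MonoidHom.inv_apply, Finset.prod_mul_distrib,
      Finset.prod_pow, Finset.prod_inv_distrib, c1, ← c2, mul_inv_cancel]
  have hxS := focalSubgroup_le F hx
  have b3 : θ ⟨x, hxS⟩ ≠ 1 := fun e => a2 (by
    rw [← homFun_of_mem, hθ _ hxS, fInv_iff.1 (B.fInv_tr θ₀) x hx, inv_one, mul_one] at e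
    exact pow_eq_one_of_not_dvd (k := 1) hY e (by rw [pow_one]; exact pow_zmod_mul _))
  obtain ⟨u, hu, hmin⟩ := (InvImage.wf (fun s : S => orderOf s) Nat.lt_wfRel.wf).has_min {s | θ s ≠ 1} ⟨_, b3⟩
  let τ := B.τ.comp B.ι
  let e : S → Y → Multiplicative (ZMod p) := fun s y => θ (B.c (B.ι s) y)
  have he : ∀ g h y, e (g * h) y = e g (τ h y) * e h y := fun g h y => by
    simp only [e, map_mul, B.c_mul]; rfl
  let Z : Finset Y := {y | ∀ s, τ s y = y}
  have hZ : ∀ y, y ∈ Z ↔ ∀ s, τ s y = y := fun y => by simp [Z]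
  have c1 : ∏ y ∈ Z, e u y = θ u ^ Z.card := by
    rw [← Finset.prod_const]
    refine Finset.prod_congr rfl fun y hy => ?_
    obtain ⟨R, f, d1, d2⟩ := B.gen' y
    have d3 := fun s => d2 s ((hZ y).1 hy s)
    have := b1 S f (h0 f (d1.mono fun s hs => (d3 ⟨s, hs⟩).1)) u u.2
    rwa [(d3 u).2, homFun_coe, homFun_coe] at this
  have c2 : ∀ A : Set Y, Invar τ A → Disjoint A Z → ∏ y ∈ A.toFinite.toFinset, e u y = 1 := fun A hA => by
    refine invar_induction (C := fun A => Disjoint A Z → ∏ y ∈ A.toFinite.toFinset, e u y = 1) (by simp)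
      (fun A y hA hy ih hd => ?_) hA
    rw [Set.disjoint_union_left] at hd
    rw [Set.Finite.toFinset_union A.toFinite (orb τ y).toFinite, Finset.prod_union
      (Set.Finite.disjoint_toFinset.2 (hA.disjoint_orb hy)), ih hd.1, one_mul]
    obtain ⟨M, hM, hyM⟩ := Core.exists_coatom_ge (H := pstab τ y) fun h =>
      Set.disjoint_left.1 hd.2 (mem_orb_self τ y) ((hZ y).2 fun s => mem_pstab.1 (h ▸ mem_top s))
    by_cases huM : u ∈ M
    · exact prod_orb_eq_one hF.pg hW τ e he hM hyM huM (Set.Finite.coe_toFinset _)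
    have hn := Core.normal_of_isCoatom_of_isPGroup hF.pg hM
    refine prod_eq_one_of_cocycle (τ.comp (zpowers u).subtype) (fun w => e w) (fun _ _ _ => he _ _ _)
      (fun w z hz => ?_) (fun w z hz hw => ?_) ⟨u, mem_zpowers u⟩
    · rw [Set.Finite.coe_toFinset] at hz ⊢
      exact invar_orb τ y _ _ hz
    obtain ⟨s, rfl⟩ := (Set.Finite.mem_toFinset _).1 hz
    have d1 : (w : S) ∈ M := by
      have : (w : S) ∈ pstab τ (τ s y) := hw
      rw [stab_act] at this
      obtain ⟨a, ha, e⟩ := this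
      exact e ▸ hn.conj_mem a (hyM ha) s
    have d2 : orderOf (w : S) < orderOf u := by
      rw [← Nat.card_zpowers, ← Nat.card_zpowers]
      exact Core.card_lt_of_lt (lt_of_le_of_ne (zpowers_le.2 w.2) fun e =>
        huM (zpowers_le.2 d1 (by rw [e]; exact mem_zpowers u)))
    obtain ⟨R, f, d3, d4⟩ := B.gen' (τ s y)
    obtain ⟨d5, d6⟩ := d4 w hw
    by_contra d7
    refine hmin _ d7 ?_
    change orderOf _ < orderOf _
    rwa [← orderOf_coe, ← d6, d3.orderOf_eq d5, orderOf_coe]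
  have c3 := c2 (Z : Set Y)ᶜ (Invar.compl fun g y hy => ((hZ y).1 hy g).symm ▸ hy) disjoint_compl_left
  have c4 := b2 u
  rw [B.tr_apply, ← Finset.prod_mul_prod_compl Z] at c4
  have c5 : (Z : Set Y)ᶜ.toFinite.toFinset = Zᶜ := by ext; simp
  rw [c5] at c3
  rw [c1, c3, mul_one] at c4
  exact hu (pow_eq_one_of_not_dvd (k := 1) (not_dvd_card_fixed hF.pg hY hZ) c4 (by rw [pow_one]; exact pow_zmod_mul _))

/-- Thompson's transfer lemma -/
theorem not_mem_focal_of_involution (hF : Fus.Sat 2 F) (hT : T.relIndex S = 2) {i : Ω} (hi : i ∈ S)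
    (hi2 : orderOf i = 2) (h : ∀ j, F.IsConjElt i j → F.IsFullyNormalized (zpowers j) → j ∉ T) :
    i ∉ F.focalSubgroup := by
  classical
  wlog hfn : F.IsFullyNormalized (zpowers i) generalizing i
  · obtain ⟨f, h1, h2⟩ := exists_fn hF (zpowers_le.2 hi)
    have h3 := le_normalizerIn (zpowers_le.2 hi) (mem_zpowers i)
    rw [h1.img_zpowers h3] at h2
    refine fun hf => this (h1.mem h3) ((h1.orderOf_eq h3).trans hi2) (fun j hj => h j ?_) h2
      (h1.mem_of_stronglyClosed (stronglyClosed_focal F) h3 hf)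
    obtain ⟨g, a1, a2⟩ := isConjElt_iff.1 hj
    exact isConjElt_iff.2 ⟨_, (h1.mono (zpowers_le.2 h3)).comp a1 fun x hx => by
      rw [← h1.img_zpowers h3]; exact mem_img_of_mem f hx, a2⟩
  obtain ⟨θ, a1, a2⟩ := exists_hom_zmod (T := T ⊓ S) hF.pg (lt_of_le_of_ne inf_le_right fun e => by
    rw [relIndex_eq_one.2 (inf_eq_right.1 e)] at hT; omega)
  have a3 : ∀ s : S, (s : Ω) ∉ T → θ s = Multiplicative.ofAdd 1 := fun s hs => by
    have b1 : θ s ≠ 1 := fun e => hs (show s ∈ T.subgroupOf S from ker_eq_of_coatom a1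
      (Core.isCoatom_of_index_prime (hT.symm ▸ Nat.prime_two : (T.relIndex S).Prime))
      (fun y hy => (homFun_coe θ y).symm.trans (a2 y ⟨hy, y.2⟩)) ▸ e)
    exact (by decide : ∀ a : Multiplicative (ZMod 2), a ≠ 1 → a = Multiplicative.ofAdd 1) _ b1
  obtain ⟨G, _, _, Y, _, B, hY⟩ := exists_cb hF
  have := Fintype.ofFinite Y
  intro hf
  have b1 := B.tr_focal θ hf
  let u : S := ⟨i, hi⟩
  let N := normalizerIn S (zpowers i)
  let κ : N →* S := inclusion (normalizerIn_le _ _)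
  let τ := B.τ.comp B.ι
  have hc : ∀ s : N, κ s * u = u * κ s := fun s => Subtype.ext (by
    have := eq_of_mem_zpowers_two hi2 (Core.conj_mem_of_mem_normalizer s.2.2 (mem_zpowers i)) (by
      rw [Ne, conj_eq_one_iff]; rintro rfl; simp at hi2)
    exact mul_inv_eq_iff_eq_mul.1 this)
  let e : S → Y → Multiplicative (ZMod 2) := fun s y => θ (B.c (B.ι s) y)
  have he : ∀ g h y, e (g * h) y = e g (τ h y) * e h y := fun g h y => by
    simp only [e, map_mul, B.c_mul]; rfl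
  let Z₁ : Finset Y := {y | τ u y = y}
  let Z : Finset Y := {y | ∀ s, τ (κ s) y = y}
  have hZ₁ : ∀ y, y ∈ Z₁ ↔ τ u y = y := fun y => by simp [Z₁]
  have hZ : ∀ y, y ∈ Z ↔ ∀ s, τ (κ s) y = y := fun y => by simp [Z]
  have hiN : i ∈ N := le_normalizerIn (zpowers_le.2 hi) (mem_zpowers i)
  have hsub : Z ⊆ Z₁ := fun y hy => (hZ₁ y).2 ((hZ y).1 hy ⟨i, hiN⟩)
  have i1 : Invar (τ.comp κ) Z₁ := fun s y hy => (hZ₁ _).2 (by
    change τ u (τ (κ s) y) = τ (κ s) y
    rw [← act_mul, ← hc, act_mul, (hZ₁ y).1 hy])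
  have i2 : Invar (τ.comp κ) Z := fun s y hy => ((hZ y).1 hy s).symm ▸ hy
  have c1 : ∏ y ∈ Z, e u y = Multiplicative.ofAdd 1 ^ Z.card := by
    rw [← Finset.prod_const]
    refine Finset.prod_congr rfl fun y hy => a3 _ ?_
    obtain ⟨R, f, d1, d2⟩ := B.gen' y
    have d3 := fun s => d2 (κ s) ((hZ y).1 hy s)
    have d4 : Mor F N f := d1.mono fun s hs => (d3 ⟨s, hs⟩).1
    have d5 := d4.fn_img hfn
    rw [d4.img_zpowers hiN] at d5
    exact (d3 ⟨i, hiN⟩).2 ▸ h _ (d4.isConjElt hiN) d5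
  have c2 : ∏ y ∈ Z₁ \ Z, e u y = 1 := prod_eq_one_of_invar (τ := τ.comp κ) (hF.pg.to_le (normalizerIn_le _ _))
    pow_zmod_mul (by rw [Finset.coe_sdiff]; exact i1.diff i2)
    (fun y hy => not_forall.1 (mt (hZ y).2 (Finset.mem_sdiff.1 hy).2)) _ fun s y hy => by
      have d1 := he (κ s) u y
      rw [hc, he, (hZ₁ y).1 (Finset.mem_sdiff.1 hy).1, mul_comm] at d1
      exact mul_left_cancel d1
  have c3 : ∏ y ∈ Z₁ᶜ, e u y = 1 := prod_eq_one_of_cocycle (τ.comp (zpowers u).subtype) (fun w => e w)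
    (fun _ _ _ => he _ _ _) (by
      rw [Finset.coe_compl]
      refine Invar.compl fun w y hy => ?_
      change τ w y ∈ Z₁
      rwa [show τ w y = y from zpowers_le.2 (mem_pstab.2 ((hZ₁ y).1 hy)) w.2]) (fun w y hy hw => by
      by_cases h1 : (w : S) = 1
      · have := he 1 1 y
        rw [map_one, mul_one, Perm.one_apply, left_eq_mul] at this
        rw [h1, this]
      · have := eq_of_mem_zpowers_two ((orderOf_coe u).symm.trans hi2) w.2 h1
        exact absurd ((hZ₁ y).2 (this ▸ hw)) (Finset.mem_compl.1 hy)) ⟨u, mem_zpowers u⟩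
  rw [homFun_of_mem _ hi, B.tr_apply, ← Finset.prod_mul_prod_compl Z₁, ← Finset.prod_sdiff hsub] at b1
  change (∏ y ∈ Z₁ \ Z, e u y) * (∏ y ∈ Z, e u y) * ∏ y ∈ Z₁ᶜ, e u y = 1 at b1
  rw [c1, c2, c3, one_mul, mul_one] at b1
  exact absurd (pow_eq_one_of_not_dvd (k := 1) (not_dvd_card_fixed (τ := τ.comp κ)
    (hF.pg.to_le (normalizerIn_le _ _)) hY hZ) b1 (by decide)) (by decide)

end Cfsg.Lib.Fus2
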